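import Cfsg.Agent.Lib.CosetTable.Cover
import Cfsg.Agent.Lib.CosetTable.SuzLevelF.RowsOK
import Cfsg.Agent.Lib.CosetTable.SuzLevelF.Steps1

/-! Generated certificate data for the coset table `SuzLevelF`. -/

namespace Cfsg.Agent.Lib.CosetTable.SuzLevelF

open Cfsg.Agent.Lib.CosetTable

theorem words_ok : cert.wordsOK = true := by decide +kernel

theorem cover : Cover cert tab 5179 where
  same := rfl
  pos := by decide +kernel
  rules := by decide +kernel
  steps := (part1 (Cert.Upto.zero _))
  rows := rows_ok

end Cfsg.Agent.Lib.CosetTable.SuzLevelF
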